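import Mathlib
import Cfsg.Agent.StdAlt.Six.Theta
import Cfsg.Agent.StdAlt.Six.Act
import Cfsg.Agent.FastGrp
import Cfsg.Agent.Prune
set_option linter.all false

section
prune_inst 0x7f00000000000000000000000000000000000000000000000000000000000000000000000000000000000000000000000000000000000000000000000000000000000000000000000000000000000000003fffffffffffffffffffffffffffbeffbdffffffff

-- part: H663/Hol/Defs
section
set_option linter.all false

/-!
# S5175, task Q2d (`StHol`): interface between the abstract part and the two groups (helper663)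

`Rel r w d` : the defining relations of `Hol(C₈)` (order 32); `Grp G` : elements `r, w, d, a` of a group `G` of order
`32 m`, `m` odd, with `Rel r w d` and `a` acting with order 3 on the four-group `⟨r⁴, w⟩` and centralizing `d`.
-/

set_option autoImplicit false

namespace Cfsg.Agent.H663.Hol

/-- `⟨r, w, d⟩` is the holomorph of the cyclic group of order 8 -/
structure Rel {G : Type*} [Group G] (r w d : G) : Prop where
  or : orderOf r = 8
  ww : w ^ 2 = 1
  dd : d ^ 2 = 1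
  wr : w * r * w⁻¹ = r⁻¹
  dr : d * r * d⁻¹ = r ^ 5
  wd : w * d = d * w
  card : Nat.card (Subgroup.closure ({r, w, d} : Set G)) = 32

/-- the subgroup `⟨r², rw, d⟩ ≅ Q₈ ∘ C₄` -/
def RR {G : Type*} [Group G] (r w d : G) : Subgroup G := Subgroup.closure {r ^ 2, r * w, d}

/-- the group side of `StHol` -/
structure Grp {G : Type*} [Group G] (r w d a : G) : Prop where
  rel : Rel r w d
  ad : a * d * a⁻¹ = d
  ar : a * r ^ 4 * a⁻¹ = w
  aw : a * w * a⁻¹ = r ^ 4 * w
  card : ∃ m : ℕ, Odd m ∧ Nat.card G = 32 * m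

/-- no element of `G` induces an automorphism of order 3 of `RR r w d` -/
def NoThree {G : Type*} [Group G] (r w d : G) : Prop :=
  ∀ g : G, (∀ x ∈ RR r w d, g * x * g⁻¹ ∈ RR r w d) → (∀ x ∈ RR r w d, g ^ 3 * x * (g ^ 3)⁻¹ = x) →
    ∀ x ∈ RR r w d, g * x * g⁻¹ = x

/-- TASK A: the group `Aut(A₆)` -/
def StGrpA : Prop :=
  ∃ r w d a : MulAut (alternatingGroup (Fin 6)), Grp r w d a ∧ NoThree r w d

/-- TASK B: the group `Aut(PSL₃(3))` -/
def StGrpB : Prop :=
  ∃ r w d a b : MulAut (Matrix.ProjectiveSpecialLinearGroup (Fin 3) (ZMod 3)), Grp r w d a ∧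
    (∀ x ∈ RR r w d, b * x * b⁻¹ ∈ RR r w d) ∧ (∀ x ∈ RR r w d, b ^ 3 * x * (b ^ 3)⁻¹ = x) ∧
    ∃ x ∈ RR r w d, b * x * b⁻¹ ≠ x

end Cfsg.Agent.H663.Hol
end

-- part: H813/Hol/GrpA
section
set_option linter.all false
open scoped Cfsg.Agent.FastGrp

-- part: H813/Hol/Abs
section
/-!
# The holomorph of the cyclic group of order eight: abstract part
-/

set_option autoImplicit false

namespace Cfsg.Agent.H813.Hol

open Subgroup

variable {G : Type*} [Group G]

/-- extension of a subgroup by an element normalizing it whose square lies in it -/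
def dbl (K : Subgroup G) (x : G) (hn : ∀ k ∈ K, x * k * x⁻¹ ∈ K) (hx : x * x ∈ K) : Subgroup G where
  carrier := {y | y ∈ K ∨ y * x⁻¹ ∈ K}
  one_mem' := Or.inl K.one_mem
  mul_mem' := by
    rintro y z (hy | hy) (hz | hz)
    · exact Or.inl (K.mul_mem hy hz)
    · refine Or.inr ?_
      rw [mul_assoc]
      exact K.mul_mem hy hz
    · refine Or.inr ?_
      have := K.mul_mem hy (hn z hz)
      rwa [show y * x⁻¹ * (x * z * x⁻¹) = y * z * x⁻¹ by group] at this
    · refine Or.inl ?_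
      have := K.mul_mem (K.mul_mem hy (hn _ hz)) hx
      rwa [show y * x⁻¹ * (x * (z * x⁻¹) * x⁻¹) * (x * x) = y * z by group] at this
  inv_mem' := by
    rintro y (hy | hy)
    · exact Or.inl (K.inv_mem hy)
    · refine Or.inr ?_
      have := K.inv_mem (K.mul_mem (hn _ hy) hx)
      rwa [show (x * (y * x⁻¹) * x⁻¹ * (x * x))⁻¹ = y⁻¹ * x⁻¹ by group] at this

theorem mem_sup {K : Subgroup G} {x : G} (hn : ∀ k ∈ K, x * k * x⁻¹ ∈ K) (hx : x * x ∈ K) {y : G}
    (hy : y ∈ K ⊔ zpowers x) : y ∈ K ∨ y * x⁻¹ ∈ K := by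
  have h : K ⊔ zpowers x ≤ dbl K x hn hx := by
    apply sup_le
    · intro k hk
      exact Or.inl hk
    · rw [zpowers_le]
      refine Or.inr ?_
      rw [mul_inv_cancel]
      exact K.one_mem
  exact h hy

theorem card_sup {K : Subgroup G} {x : G} (hn : ∀ k ∈ K, x * k * x⁻¹ ∈ K) (hx : x * x ∈ K) (hxK : x ∉ K) :
    Nat.card (K ⊔ zpowers x : Subgroup G) = Nat.card K * 2 := by
  have hle : K ≤ K ⊔ zpowers x := le_sup_left
  have h2 : K.relIndex (K ⊔ zpowers x) = 2 := by
    rw [Subgroup.relIndex_eq_two_iff]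
    refine ⟨x⁻¹, (K ⊔ zpowers x).inv_mem ((le_sup_right : zpowers x ≤ K ⊔ zpowers x) (mem_zpowers x)),
      fun b hb => ?_⟩
    rcases mem_sup hn hx hb with h | h
    · refine Or.inr ⟨h, fun h' => hxK ?_⟩
      have := K.mul_mem (K.inv_mem h) h'
      rw [inv_mul_cancel_left] at this
      simpa using K.inv_mem this
    · refine Or.inl ⟨h, fun h' => hxK ?_⟩
      have := K.mul_mem (K.inv_mem h) h'
      simpa using this
  have h3 := Subgroup.relIndex_mul_relIndex ⊥ K (K ⊔ zpowers x) bot_le hle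
  rw [h2, relIndex_bot_left, relIndex_bot_left] at h3
  exact h3.symm

variable {r w d : G}

theorem mem_zp {x y k : G} (m : ℤ) (hx : y * x * y⁻¹ = x ^ m) (hk : k ∈ zpowers x) : y * k * y⁻¹ ∈ zpowers x := by
  obtain ⟨n, rfl⟩ := mem_zpowers_iff.1 hk
  rw [← conj_zpow, hx, ← zpow_mul]
  exact zpow_mem (mem_zpowers x) _

/-- the order of the group generated by `r`, `w`, `d` -/
theorem card_of (ho : orderOf r = 8) (hw : w ^ 2 = 1) (hd : d ^ 2 = 1) (hwr : w * r * w⁻¹ = r⁻¹)
    (hdr : d * r * d⁻¹ = r ^ 5) (hwd : w * d = d * w) :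
    Nat.card (Subgroup.closure ({r, w, d} : Set G)) = 32 := by
  have h8 : ∀ n : ℕ, 0 < n → n < 8 → r ^ n ≠ 1 := by
    intro n h1 h2 h3
    have := orderOf_dvd_of_pow_eq_one h3
    rw [ho] at this
    exact absurd (Nat.le_of_dvd h1 this) (by omega)
  have hwr' : ∀ k ∈ zpowers r, w * k * w⁻¹ ∈ zpowers r :=
    fun k hk => mem_zp (-1) (by rw [hwr, zpow_neg_one]) hk
  have hdr' : ∀ k ∈ zpowers r, d * k * d⁻¹ ∈ zpowers r :=
    fun k hk => mem_zp 5 (by rw [hdr]; norm_cast) hk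
  have hww : w * w ∈ zpowers r := by rw [← sq, hw]; exact one_mem _
  have hw1 : w ∉ zpowers r := by
    intro h
    obtain ⟨n, hn⟩ := mem_zpowers_iff.1 h
    have h1 : w * r * w⁻¹ = r := by rw [← hn]; group
    rw [hwr] at h1
    apply h8 2 (by omega) (by omega)
    rw [sq]
    nth_rewrite 1 [← h1]
    group
  have c1 : Nat.card (zpowers r) = 8 := by rw [Nat.card_zpowers, ho]
  have c2 := card_sup hwr' hww hw1
  have hdK : ∀ k ∈ zpowers r ⊔ zpowers w, d * k * d⁻¹ ∈ zpowers r ⊔ zpowers w := by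
    intro k hk
    have hw' : w ∈ zpowers r ⊔ zpowers w := (le_sup_right : zpowers w ≤ zpowers r ⊔ zpowers w) (mem_zpowers w)
    rcases mem_sup hwr' hww hk with h | h
    · exact (le_sup_left : zpowers r ≤ zpowers r ⊔ zpowers w) (hdr' k h)
    · have h1 := (le_sup_left : zpowers r ≤ zpowers r ⊔ zpowers w) (hdr' _ h)
      have h2 := (zpowers r ⊔ zpowers w).mul_mem h1 hw'
      have h3 : d * w * d⁻¹ = w := by rw [← hwd]; group
      rwa [show d * (k * w⁻¹) * d⁻¹ * w = d * k * d⁻¹ by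
        calc d * (k * w⁻¹) * d⁻¹ * w = d * (k * w⁻¹) * d⁻¹ * (d * w * d⁻¹) := by rw [h3]
          _ = d * k * d⁻¹ := by group] at h2
  have hdd : d * d ∈ zpowers r ⊔ zpowers w := by rw [← sq, hd]; exact one_mem _
  have hd1 : d ∉ zpowers r ⊔ zpowers w := by
    intro h
    rcases mem_sup hwr' hww h with h | h
    · obtain ⟨n, hn⟩ := mem_zpowers_iff.1 h
      have h1 : d * r * d⁻¹ = r := by rw [← hn]; group
      rw [hdr] at h1
      apply h8 4 (by omega) (by omega)
      have : r ^ 5 = r ^ 4 * r := pow_succ r 4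
      rw [this] at h1
      simpa using h1
    · obtain ⟨n, hn⟩ := mem_zpowers_iff.1 h
      have h0 : d = r ^ n * w := by rw [hn]; group
      have h1 : d * r * d⁻¹ = r⁻¹ := by
        calc d * r * d⁻¹ = r ^ n * (w * r * w⁻¹) * (r ^ n)⁻¹ := by rw [h0]; group
          _ = r⁻¹ := by rw [hwr]; group
      rw [hdr] at h1
      apply h8 6 (by omega) (by omega)
      rw [pow_succ, h1, inv_mul_cancel]
  have c3 := card_sup hdK hdd hd1
  have hcl : Subgroup.closure ({r, w, d} : Set G) = zpowers r ⊔ zpowers w ⊔ zpowers d := by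
    have : ({r, w, d} : Set G) = {r} ∪ {w} ∪ {d} := by
      ext x; simp only [Set.mem_insert_iff, Set.mem_singleton_iff, Set.mem_union]; (clear * -; tauto)
    rw [this, Subgroup.closure_union, Subgroup.closure_union, ← zpowers_eq_closure, ← zpowers_eq_closure,
      ← zpowers_eq_closure]
  rw [hcl, c3, c2, c1]

/-- no element induces an automorphism of order three on `⟨r², rw, d⟩` -/
theorem noThree (h : H663.Hol.Rel r w d) {N : Subgroup G} [N.Normal] (h4 : N.index = 4)
    (hr : r ^ 2 ∈ N) (h1 : r * w ∉ N) (h2 : d ∉ N) (h3 : r * w * d ∉ N) : H663.Hol.NoThree r w d := by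
  have ho := h.or
  have h8 : r ^ 8 = 1 := by rw [← ho]; exact pow_orderOf_eq_one r
  have hr4 : r ^ 4 ≠ 1 := by
    intro h3
    have := orderOf_dvd_of_pow_eq_one h3
    rw [ho] at this
    exact absurd this (by decide)
  have hwr := h.wr
  have hdr := h.dr
  have hww := h.ww
  have hdd := h.dd
  have hwd := h.wd
  -- the structure of the group
  have hZN : zpowers (r ^ 2) ≤ N := by rw [zpowers_le]; exact hr
  have e1 : (r * w) * r ^ 2 * (r * w)⁻¹ = (r ^ 2) ^ (-1 : ℤ) := by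
    calc (r * w) * r ^ 2 * (r * w)⁻¹ = r * (w * r * w⁻¹) * (w * r * w⁻¹) * r⁻¹ := by rw [sq]; group
      _ = (r ^ 2) ^ (-1 : ℤ) := by rw [hwr]; group
  have e2 : d * r ^ 2 * d⁻¹ = r ^ 2 := by
    calc d * r ^ 2 * d⁻¹ = (d * r * d⁻¹) * (d * r * d⁻¹) := by rw [sq]; group
      _ = r ^ 8 * r ^ 2 := by rw [hdr]; group
      _ = r ^ 2 := by rw [h8, one_mul]
  have k1 : ∀ k ∈ zpowers (r ^ 2), (r * w) * k * (r * w)⁻¹ ∈ zpowers (r ^ 2) := fun k hk => mem_zp (-1) e1 hk
  have k2 : (r * w) * (r * w) ∈ zpowers (r ^ 2) := by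
    have : (r * w) * (r * w) = 1 := by
      calc (r * w) * (r * w) = r * (w * r * w⁻¹) * (w ^ 2) := by group
        _ = 1 := by rw [hwr, hww]; group
    rw [this]; exact one_mem _
  have k3 : ∀ k ∈ zpowers (r ^ 2) ⊔ zpowers (r * w), d * k * d⁻¹ ∈ zpowers (r ^ 2) ⊔ zpowers (r * w) := by
    intro k hk
    have hz : ∀ k ∈ zpowers (r ^ 2), d * k * d⁻¹ ∈ zpowers (r ^ 2) := fun k hk => mem_zp 1 (by rw [e2, zpow_one]) hk
    have hle : zpowers (r ^ 2) ≤ zpowers (r ^ 2) ⊔ zpowers (r * w) := le_sup_left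
    have hw' : r * w ∈ zpowers (r ^ 2) ⊔ zpowers (r * w) :=
      (le_sup_right : zpowers (r * w) ≤ zpowers (r ^ 2) ⊔ zpowers (r * w)) (mem_zpowers _)
    rcases mem_sup k1 k2 hk with h | h
    · exact hle (hz k h)
    · have a1 := hle (hz _ h)
      have a2 : d * (r * w) * d⁻¹ = (r ^ 2) ^ 2 * (r * w) := by
        calc d * (r * w) * d⁻¹ = (d * r * d⁻¹) * ((d * w) * d⁻¹) := by group
          _ = (r ^ 2) ^ 2 * (r * w) := by rw [hdr, ← hwd]; group
      have a3 : d * (r * w) * d⁻¹ ∈ zpowers (r ^ 2) ⊔ zpowers (r * w) := by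
        rw [a2]
        exact mul_mem (hle (pow_mem (mem_zpowers _) 2)) hw'
      have a4 := mul_mem a1 a3
      rwa [show d * (k * (r * w)⁻¹) * d⁻¹ * (d * (r * w) * d⁻¹) = d * k * d⁻¹ by group] at a4
  have k4 : d * d ∈ zpowers (r ^ 2) ⊔ zpowers (r * w) := by rw [← sq, hdd]; exact one_mem _
  have hRR : H663.Hol.RR r w d = zpowers (r ^ 2) ⊔ zpowers (r * w) ⊔ zpowers d := by
    have : ({r ^ 2, r * w, d} : Set G) = {r ^ 2} ∪ {r * w} ∪ {d} := by
      ext x; simp only [Set.mem_insert_iff, Set.mem_singleton_iff, Set.mem_union]; (clear * -; tauto)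
    rw [H663.Hol.RR, this, Subgroup.closure_union, Subgroup.closure_union, ← zpowers_eq_closure,
      ← zpowers_eq_closure, ← zpowers_eq_closure]
  have hmem : ∀ x ∈ H663.Hol.RR r w d, x ∈ N → x ∈ zpowers (r ^ 2) := by
    intro x hx hxN
    rw [hRR] at hx
    rcases mem_sup k3 k4 hx with hx | hx
    · rcases mem_sup k1 k2 hx with hx | hx
      · exact hx
      · exfalso
        apply h1
        have := N.mul_mem (N.inv_mem (hZN hx)) hxN
        rwa [show (x * (r * w)⁻¹)⁻¹ * x = r * w by group] at this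
    · rcases mem_sup k1 k2 hx with hx | hx
      · exfalso
        apply h2
        have := N.mul_mem (N.inv_mem (hZN hx)) hxN
        rwa [show (x * d⁻¹)⁻¹ * x = d by group] at this
      · exfalso
        apply h3
        have := N.mul_mem (N.inv_mem (hZN hx)) hxN
        rwa [show (x * d⁻¹ * (r * w)⁻¹)⁻¹ * x = r * w * d by group] at this
  have hZR : zpowers (r ^ 2) ≤ H663.Hol.RR r w d := by
    rw [hRR]
    exact le_sup_left.trans le_sup_left
  have hZ4 : ∀ z ∈ zpowers (r ^ 2), z ^ 4 = 1 := by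
    intro z hz
    obtain ⟨n, rfl⟩ := mem_zpowers_iff.1 hz
    calc ((r ^ 2) ^ n) ^ 4 = (r ^ 8) ^ n := by group
      _ = 1 := by rw [h8, one_zpow]
  intro g hg hg3
  have hG4 : g ^ 4 ∈ N := by rw [← h4]; exact pow_index_mem N g
  obtain ⟨a, ha⟩ : ∃ a, a = g ^ 4 := ⟨_, rfl⟩
  rw [← ha] at hG4
  have hact : ∀ x ∈ H663.Hol.RR r w d, a * x * a⁻¹ = g * x * g⁻¹ := by
    intro x hx
    calc a * x * a⁻¹ = g * (g ^ 3 * x * (g ^ 3)⁻¹) * g⁻¹ := by rw [ha]; group
      _ = g * x * g⁻¹ := by rw [hg3 x hx]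
  have haR : ∀ x ∈ H663.Hol.RR r w d, a * x * a⁻¹ ∈ H663.Hol.RR r w d := by
    intro x hx
    rw [hact x hx]; exact hg x hx
  have h3' : ∀ x ∈ H663.Hol.RR r w d, a * (a * (a * x * a⁻¹) * a⁻¹) * a⁻¹ = x := by
    intro x hx
    rw [hact _ (haR _ (haR x hx)), hact _ (haR x hx), hact x hx]
    have := hg3 x hx
    rw [← this]
    rw [this]
    calc g * (g * (g * x * g⁻¹) * g⁻¹) * g⁻¹ = g ^ 3 * x * (g ^ 3)⁻¹ := by
          rw [pow_succ, sq]; group
      _ = x := hg3 x hx
  -- `a` centralizes `r ^ 2`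
  have hrR : r ^ 2 ∈ H663.Hol.RR r w d := hZR (mem_zpowers _)
  have ha2 : a * r ^ 2 * a⁻¹ = r ^ 2 := by
    have b1 : a * r ^ 2 * a⁻¹ ∈ zpowers (r ^ 2) :=
      hmem _ (haR _ hrR) (N.mul_mem (N.mul_mem hG4 hr) (N.inv_mem hG4))
    obtain ⟨n, hn⟩ := mem_zpowers_iff.1 b1
    have hfour : (r ^ 2) ^ (4 : ℤ) = 1 := by
      calc (r ^ 2) ^ (4 : ℤ) = r ^ 8 := by group
        _ = 1 := h8
    have hsq : ∀ m : ℤ, (r ^ 2) ^ (4 * m) = 1 := fun m => by rw [zpow_mul, hfour, one_zpow]
    have h0 : ∀ m : ℤ, (a * r ^ 2 * a⁻¹) ^ m = a * (r ^ 2) ^ m * a⁻¹ := fun m => conj_zpow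
    rcases Int.even_or_odd' n with ⟨m, hm | hm⟩
    · exfalso
      apply hr4
      have b2 : (a * r ^ 2 * a⁻¹) ^ (2 : ℤ) = 1 := by
        rw [← hn, hm, ← zpow_mul, show 2 * m * 2 = 4 * m by ring, hsq]
      rw [h0] at b2
      have b3 : (r ^ 2) ^ (2 : ℤ) = 1 := by
        calc (r ^ 2) ^ (2 : ℤ) = a⁻¹ * (a * (r ^ 2) ^ (2 : ℤ) * a⁻¹) * a := by group
          _ = 1 := by rw [b2]; group
      calc r ^ 4 = (r ^ 2) ^ (2 : ℤ) := by group
        _ = 1 := b3
    · rcases Int.even_or_odd' m with ⟨l, hl | hl⟩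
      · rw [← hn, hm, hl, zpow_add, show 2 * (2 * l) = 4 * l by ring, hsq, one_mul, zpow_one]
      · exfalso
        have b2 : a * r ^ 2 * a⁻¹ = (r ^ 2)⁻¹ := by
          rw [← hn, hm, hl, show 2 * (2 * l + 1) + 1 = 4 * (l + 1) + (-1) by ring, zpow_add, hsq, one_mul,
            zpow_neg_one]
        have b3 := h3' _ hrR
        have b4 : a * (r ^ 2)⁻¹ * a⁻¹ = r ^ 2 := by
          calc a * (r ^ 2)⁻¹ * a⁻¹ = (a * r ^ 2 * a⁻¹)⁻¹ := by group
            _ = r ^ 2 := by rw [b2, inv_inv]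
        rw [b2, b4, b2] at b3
        apply hr4
        calc r ^ 4 = r ^ 2 * r ^ 2 := by group
          _ = 1 := by nth_rewrite 1 [← b3]; group
  have haZ : ∀ z ∈ zpowers (r ^ 2), a * z * a⁻¹ = z := by
    intro z hz
    obtain ⟨n, rfl⟩ := mem_zpowers_iff.1 hz
    rw [← conj_zpow, ha2]
  intro x hx
  rw [← hact x hx]
  have c1 : a * x * a⁻¹ * x⁻¹ ∈ zpowers (r ^ 2) := by
    apply hmem
    · exact mul_mem (haR x hx) (inv_mem hx)
    · have : x * a⁻¹ * x⁻¹ ∈ N := Normal.conj_mem inferInstance _ (N.inv_mem hG4) x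
      have := N.mul_mem hG4 this
      rwa [show a * (x * a⁻¹ * x⁻¹) = a * x * a⁻¹ * x⁻¹ by group] at this
  obtain ⟨c, hc⟩ : ∃ c, c = a * x * a⁻¹ * x⁻¹ := ⟨_, rfl⟩
  rw [← hc] at c1
  have c2 : a * x * a⁻¹ = c * x := by rw [hc]; group
  have c3 := h3' x hx
  have c4 : a * (c * x) * a⁻¹ = c * (c * x) := by
    calc a * (c * x) * a⁻¹ = (a * c * a⁻¹) * (a * x * a⁻¹) := by group
      _ = c * (c * x) := by rw [haZ c c1, c2]
  have c5 : a * (c * (c * x)) * a⁻¹ = c * (c * (c * x)) := by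
    calc a * (c * (c * x)) * a⁻¹ = (a * c * a⁻¹) * (a * (c * x) * a⁻¹) := by group
      _ = c * (c * (c * x)) := by rw [haZ c c1, c4]
  rw [c2, c4, c5] at c3
  have c6 : c ^ 3 = 1 := by
    calc c ^ 3 = c * (c * (c * x)) * x⁻¹ := by rw [pow_succ, sq]; group
      _ = 1 := by rw [c3, mul_inv_cancel]
  have c7 := hZ4 c c1
  have c8 : c = 1 := by
    rw [pow_succ, c6, one_mul] at c7
    exact c7
  rw [c2, c8, one_mul]

end Cfsg.Agent.H813.Hol
end

-- part: H813/Hol/GrpA
section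
/-!
# `Aut(A₆)` contains the holomorph of the cyclic group of order eight

`grpA` : task 3209 of helper663 for S5175.
-/

set_option autoImplicit false

namespace Cfsg.Agent.H813.Hol

open Equiv Equiv.Perm Subgroup
open Cfsg.Agent.StdAlt Cfsg.Agent.StdAlt.Six
open Cfsg.Agent.StdAlt.PermTypes (cyc)

/-- the cycles `(i 4 5)` -/
def cp (i : Fin 6) : Perm (Fin 6) := if i = 4 ∨ i = 5 then 1 else cyc i 4 5

/-- index tables -/
def p1 : Fin 6 → Fin 6 := ![1, 0, 3, 2, 4, 4]
/-- index tables -/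
def p2 : Fin 6 → Fin 6 := ![2, 1, 0, 3, 4, 4]
/-- index tables -/
def p3 : Fin 6 → Fin 6 := ![0, 3, 2, 1, 4, 4]
/-- index tables -/
def p4 : Fin 6 → Fin 6 := ![3, 2, 1, 0, 4, 4]
/-- index tables -/
def q1 : Fin 6 → Fin 6 := ![0, 1, 2, 3, 4, 4]
/-- index tables -/
def q2 : Fin 6 → Fin 6 := ![3, 0, 1, 2, 4, 4]
/-- index tables -/
def q3 : Fin 6 → Fin 6 := ![1, 2, 3, 0, 4, 4]
/-- index tables -/
def q4 : Fin 6 → Fin 6 := ![2, 3, 0, 1, 4, 4]

/-- the images of the cycles under the automorphism of order eight -/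
def yp (i : Fin 6) : Perm (Fin 6) := cp (p1 i) * cp (p2 i) * cp (p3 i) * cp (p4 i)

/-- the square of the automorphism of order eight -/
def t : Perm (Fin 6) := cyc 0 1 2 * swap 2 3 * swap 4 5
/-- its fourth power -/
def s : Perm (Fin 6) := swap 0 2 * swap 1 3
/-- an involution -/
def w0 : Perm (Fin 6) := swap 0 1 * swap 2 3
/-- a transposition -/
def d0 : Perm (Fin 6) := swap 4 5
/-- an element of order three -/
def a0 : Perm (Fin 6) := cyc 1 3 2

theorem cp_even : ∀ i, Perm.sign (cp i) = 1 := by decide +kernel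
theorem yp_even : ∀ i, Perm.sign (yp i) = 1 := by decide +kernel
theorem yp_cube : ∀ i, yp i ^ 3 = 1 := by decide +kernel
theorem yp_sq : ∀ i j : Fin 6, (i ≠ 4 ∧ i ≠ 5) → (j ≠ 4 ∧ j ≠ 5) → i ≠ j → (yp i * yp j) ^ 2 = 1 := by
  decide +kernel
theorem t_sq : t * t = s := by decide +kernel
theorem s_sq : s * s = 1 := by decide +kernel
theorem s_ne : s ≠ 1 := by decide +kernel
theorem w0_sq : w0 * w0 = 1 := by decide +kernel
theorem d0_sq' : d0 * d0 = 1 := by decide +kernel
theorem wd0 : w0 * d0 = d0 * w0 := by decide +kernel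
theorem ad0 : a0 * d0 * a0⁻¹ = d0 := by decide +kernel
theorem as0 : a0 * s * a0⁻¹ = w0 := by decide +kernel
theorem aw0 : a0 * w0 * a0⁻¹ = s * w0 := by decide +kernel
theorem mv_cp : mv (cp 0) = 3 := by decide +kernel
theorem mv_yp : mv (yp 0) = 6 := by decide +kernel
theorem yp_ne : yp 0 ≠ 1 := by decide +kernel
theorem sq_word : ∀ i, yp (p1 i) * yp (p2 i) * yp (p3 i) * yp (p4 i) = t * cp i * t⁻¹ := by decide +kernel
theorem w_word : ∀ i, w0⁻¹ * yp i * w0 = cp (q1 i) * cp (q2 i) * cp (q3 i) * cp (q4 i) := by decide +kernel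
theorem w_word' : ∀ i, w0 * (yp (q1 i) * yp (q2 i) * yp (q3 i) * yp (q4 i)) * w0⁻¹ = cp i := by decide +kernel
theorem d_word : ∀ i, d0⁻¹ * cp i * d0 = (cp i)⁻¹ := by decide +kernel
theorem d_word' : ∀ i, d0 * (yp i)⁻¹ * d0⁻¹ = s * yp i * s⁻¹ := by decide +kernel
theorem d0_odd : Perm.sign d0 = -1 := by decide +kernel
theorem t_even : Perm.sign t = 1 := by decide +kernel

/-- the cycles in `A6` -/
def C (i : Fin 6) : A6 := ⟨cp i, Equiv.Perm.mem_alternatingGroup.2 (cp_even i)⟩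
/-- their images in `A6` -/
def Y (i : Fin 6) : A6 := ⟨yp i, Equiv.Perm.mem_alternatingGroup.2 (yp_even i)⟩

theorem Y_eq (i : Fin 6) : Y i = C (p1 i) * C (p2 i) * C (p3 i) * C (p4 i) := rfl

/-- automorphisms agreeing on the cycles agree -/
theorem ext_C {α β : MulAut A6} (h : ∀ i, α (C i) = β (C i)) : α = β := by
  have h1 : MonoidHom.eqLocus α.toMonoidHom β.toMonoidHom = ⊤ := by
    apply Carm.eq_top_of_cyc (c := (4 : Fin 6)) (d := 5) (by decide) (by simp)
    intro σ i h4 h5 hσ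
    have : σ = C i := by
      apply Subtype.ext
      rw [hσ]
      show cyc i 4 5 = cp i
      rw [cp, if_neg (by tauto)]
    rw [this]
    exact h i
  ext x : 1
  have : x ∈ MonoidHom.eqLocus α.toMonoidHom β.toMonoidHom := by rw [h1]; exact mem_top _
  exact this

theorem exists_r : ∃ r : MulAut A6, ∀ i, r (C i) = Y i := by
  obtain ⟨f, hf⟩ := Carm.exists_hom (c := (4 : Fin 6)) (d := 5) (y := Y) (by decide) (by simp)
    (fun i _ _ => Subtype.ext (yp_cube i))
    (fun i j h1 h2 h3 h4 h5 => Subtype.ext (yp_sq i j ⟨h1, h2⟩ ⟨h3, h4⟩ h5))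
  have h0 : ∀ i, f (C i) = Y i := by
    intro i
    by_cases hi : i = 4 ∨ i = 5
    · have h1 : C i = 1 := Subtype.ext (by show cp i = 1; rw [cp, if_pos hi])
      have h2 : Y i = 1 := by
        rcases hi with rfl | rfl <;> exact Subtype.ext (by show yp _ = 1; decide +kernel)
      rw [h1, h2, map_one]
    · push Not at hi
      exact hf (C i) i hi.1 hi.2 (by show cp i = _; rw [cp, if_neg (by tauto)])
  have hsimple : IsSimpleGroup A6 :=
    alternatingGroup.isSimpleGroup (by rw [Nat.card_eq_fintype_card, Fintype.card_fin]; omega)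
  have hinj : Function.Injective f := by
    rw [← MonoidHom.ker_eq_bot_iff]
    rcases (inferInstance : f.ker.Normal).eq_bot_or_eq_top with hb | ht
    · exact hb
    · exfalso
      have h1 : C 0 ∈ f.ker := by
        rw [ht]; exact mem_top _
      rw [MonoidHom.mem_ker, h0] at h1
      exact yp_ne ((congrArg Subtype.val h1 :))
  exact ⟨MulEquiv.ofBijective f (Finite.injective_iff_bijective.1 hinj), h0⟩

theorem card_aut : Nat.card (MulAut A6) = 1440 := by
  classical
  obtain ⟨θ, hθ⟩ := exists_theta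
  have hmem : ∀ α : MulAut A6, α ∈ pc.range ↔ NS α := by
    intro α
    rw [ns_iff]
    constructor
    · rintro ⟨σ, h⟩; exact ⟨σ, h.symm⟩
    · rintro ⟨σ, h⟩; exact ⟨σ, h.symm⟩
  have h1 : pc.range.index = 2 := by
    rw [Subgroup.index_eq_two_iff]
    refine ⟨θ, fun b => ?_⟩
    rw [hmem, hmem]
    by_cases hb : NS b
    · exact Or.inr ⟨hb, not_ns_mul_left hb hθ⟩
    · exact Or.inl ⟨NS.mul_of_not hb hθ, hb⟩
  have h2 : Nat.card pc.range = 720 := by
    have h3 : Function.Injective pc := fun _ _ h => pc_inj h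
    rw [← Nat.card_congr (MonoidHom.ofInjective (f := pc) h3).toEquiv, Nat.card_perm,
      Nat.card_eq_fintype_card, Fintype.card_fin]
    rfl
  have h3 := Subgroup.card_mul_index pc.range
  rw [h1, h2] at h3
  exact h3.symm

theorem index_inn : (MulAut.conj (G := A6)).range.index = 4 := by
  have h1 : Nat.card (MulAut.conj (G := A6)).range = 360 := by
    have h3 : Function.Injective (MulAut.conj (G := A6)) := fun _ _ h => conj_inj h
    rw [← Nat.card_congr (MonoidHom.ofInjective h3).toEquiv]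
    have h := two_mul_nat_card_alternatingGroup (α := Fin 6)
    rw [Nat.card_perm, Nat.card_eq_fintype_card (α := Fin 6), Fintype.card_fin] at h
    have h6 : Nat.factorial 6 = 720 := rfl
    rw [h6] at h
    have h7 : 2 * Nat.card A6 = 720 := h
    omega
  have h3 := Subgroup.card_mul_index (MulAut.conj (G := A6)).range
  rw [h1, card_aut] at h3
  omega

theorem inn_normal : (MulAut.conj (G := A6)).range.Normal := by
  constructor
  rintro _ ⟨x, rfl⟩ α
  refine ⟨α x, ?_⟩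
  ext y : 1
  simp only [_root_.MulAut.conj_apply, _root_.MulAut.mul_apply, _root_.MulAut.inv_apply, _root_.map_mul, _root_.MulEquiv.apply_symm_apply, _root_.map_inv]

theorem grpA : Cfsg.Agent.H663.Hol.StGrpA := by
  obtain ⟨r, hr⟩ := exists_r
  have hrw : ∀ i j k l : Fin 6, r (C i * C j * C k * C l) = Y i * Y j * Y k * Y l := by
    intro i j k l
    rw [map_mul, map_mul, map_mul, hr, hr, hr, hr]
  have hr2 : r * r = pc t := by
    apply ext_C
    intro i
    rw [MulAut.mul_apply, hr, Y_eq, hrw]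
    apply Subtype.ext
    rw [pc_apply]
    exact sq_word i
  have hr4 : r ^ 4 = pc s := by
    rw [← t_sq, map_mul, ← hr2]
    simp only [pow_succ, pow_zero, one_mul, mul_assoc]
  have hr8 : r ^ 8 = 1 := by
    have : r ^ 8 = r ^ 4 * r ^ 4 := by group
    rw [this, hr4, ← map_mul, s_sq, map_one]
  have hor : orderOf r = 8 := by
    have : orderOf r = 2 ^ (2 + 1) := by
      apply orderOf_eq_prime_pow
      · show ¬ r ^ 4 = 1
        rw [hr4]
        intro h
        exact s_ne (pc_inj (by rw [h, map_one]))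
      · exact hr8
    rw [this]; norm_num
  have hwr : pc w0 * r * (pc w0)⁻¹ = r⁻¹ := by
    rw [eq_inv_iff_mul_eq_one, ← map_inv]
    apply ext_C
    intro i
    rw [MulAut.mul_apply, MulAut.mul_apply, MulAut.mul_apply, MulAut.one_apply, hr]
    have h1 : (pc w0⁻¹) (Y i) = C (q1 i) * C (q2 i) * C (q3 i) * C (q4 i) := by
      apply Subtype.ext
      rw [pc_apply, inv_inv]
      exact w_word i
    rw [h1, hrw]
    apply Subtype.ext
    rw [pc_apply]
    exact w_word' i
  have hdr : pc d0 * r * (pc d0)⁻¹ = r ^ 5 := by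
    rw [pow_succ, hr4, ← map_inv]
    apply ext_C
    intro i
    rw [MulAut.mul_apply, MulAut.mul_apply, MulAut.mul_apply, hr]
    have h1 : (pc d0⁻¹) (C i) = (C i)⁻¹ := by
      apply Subtype.ext
      rw [pc_apply, inv_inv]
      exact d_word i
    rw [h1, map_inv, hr]
    apply Subtype.ext
    rw [pc_apply, pc_apply]
    exact d_word' i
  have hww : pc w0 ^ 2 = 1 := by rw [sq, ← map_mul, w0_sq, map_one]
  have hdd : pc d0 ^ 2 = 1 := by rw [sq, ← map_mul, d0_sq', map_one]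
  have hwd : pc w0 * pc d0 = pc d0 * pc w0 := by rw [← map_mul, wd0, map_mul]
  have hrel : Cfsg.Agent.H663.Hol.Rel r (pc w0) (pc d0) :=
    ⟨hor, hww, hdd, hwr, hdr, hwd, card_of hor hww hdd hwr hdr hwd⟩
  have hns : ¬ NS r := by
    rintro ⟨σ, hσ⟩
    have h1 := hσ (C 0)
    rw [hr] at h1
    have h2 : yp 0 = σ * cp 0 * σ⁻¹ := h1
    have h3 := mv_yp
    rw [h2, mv_conj, mv_cp] at h3
    exact absurd h3 (by decide)
  have hN : ∀ α : MulAut A6, α ∈ (MulAut.conj (G := A6)).range → NS α := by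
    rintro _ ⟨x, rfl⟩
    exact NS.conj x
  refine ⟨r, pc w0, pc d0, pc a0, ⟨hrel, ?_, ?_, ?_, ⟨45, by decide, card_aut⟩⟩, ?_⟩
  · rw [← map_mul, ← map_inv, ← map_mul, ad0]
  · rw [hr4, ← map_mul, ← map_inv, ← map_mul, as0]
  · rw [hr4, ← map_mul, ← map_mul, ← map_inv, ← map_mul, aw0]
  · have hn := inn_normal
    refine noThree hrel (N := (MulAut.conj (G := A6)).range) index_inn ?_ ?_ ?_ ?_
    · refine ⟨⟨t, Equiv.Perm.mem_alternatingGroup.2 t_even⟩, ?_⟩
      rw [← pc_val, sq, hr2]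
    · intro h
      exact not_ns_mul_right hns (ns_pc w0) (hN _ h)
    · rintro ⟨x, hx⟩
      rw [← pc_val] at hx
      have h1 := sign_val x
      rw [pc_inj hx, d0_odd] at h1
      exact absurd h1 (by decide)
    · intro h
      exact not_ns_mul_right (not_ns_mul_right hns (ns_pc w0)) (ns_pc d0) (hN _ h)

end Cfsg.Agent.H813.Hol
end

private theorem dce_8c08f839e077 : _root_.True := by
  try have : _root_.True := by simp only [_root_.Cfsg.Agent.H813.Hol.cp.eq_1]
  try have : _root_.True := by simp only [_root_.Cfsg.Agent.H663.Hol.RR.eq_1]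
  exact _root_.True.intro
end
end
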